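import Groth.Agent.SGA1Q.Residue
import Mathlib.AlgebraicGeometry.Morphisms.Finite
import Mathlib.LinearAlgebra.FiniteDimensional.Basic
import Mathlib.LinearAlgebra.Dimension.Constructions

/-!
# A uniform bound for the residue degrees of a finite morphism
-/

set_option autoImplicit false
set_option backward.isDefEq.respectTransparency false
universe u

open AlgebraicGeometry CategoryTheory

namespace Groth.Agent.FibDeg

theorem finrank_le_of_frac {K L B : Type*} [Field K] [Field L] [Algebra K L] [CommRing B]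
    (ev : B →+* L) (hfrac : ∀ z : L, ∃ a b, ev b ≠ 0 ∧ z = ev a / ev b) {n : ℕ} (s : Fin n → L)
    (hs : ∀ b, ev b ∈ Submodule.span K (Set.range s)) :
    Module.Finite K L ∧ Module.finrank K L ≤ n := by
  let N : Submodule K L := Submodule.span K (Set.range ev)
  have hN : N ≤ Submodule.span K (Set.range s) := Submodule.span_le.2 (by
    rintro _ ⟨b, rfl⟩; exact hs b)
  haveI : FiniteDimensional K (Submodule.span K (Set.range s)) :=
    FiniteDimensional.span_of_finite K (Set.finite_range s)
  haveI : FiniteDimensional K N := Submodule.finiteDimensional_of_le hN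
  have htop : ∀ z : L, z ∈ N := by
    intro z
    obtain ⟨a, b, hb, rfl⟩ := hfrac z
    have hmul : ∀ w ∈ N, ev b * w ∈ N := by
      intro w hw
      induction hw using Submodule.span_induction with
      | mem x hx =>
        obtain ⟨c, rfl⟩ := hx
        exact Submodule.subset_span ⟨b * c, map_mul ev b c⟩
      | zero => simp
      | add x y _ _ hx hy => rw [mul_add]; exact add_mem hx hy
      | smul r x _ hx => rw [mul_smul_comm]; exact Submodule.smul_mem _ r hx
    let φ : N →ₗ[K] N :=
      { toFun := fun w => ⟨ev b * w.1, hmul w.1 w.2⟩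
        map_add' := fun x y => by ext; simp [mul_add]
        map_smul' := fun r x => by ext; simp }
    have hinj : Function.Injective φ := fun x y h => by
      have := congrArg Subtype.val h
      exact Subtype.ext (mul_left_cancel₀ hb this)
    obtain ⟨w, hw⟩ := (LinearMap.injective_iff_surjective.1 hinj) ⟨ev a, Submodule.subset_span ⟨a, rfl⟩⟩
    have hw' : ev b * w.1 = ev a := congrArg Subtype.val hw
    rw [show ev a / ev b = w.1 by rw [← hw', mul_div_cancel_left₀ _ hb]]
    exact w.2
  have : Submodule.span K (Set.range s) = ⊤ := eq_top_iff.2 fun z _ => hN (htop z)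
  refine ⟨⟨this ▸ Submodule.fg_span (Set.finite_range s)⟩, ?_⟩
  calc Module.finrank K L = Module.finrank K (Submodule.span K (Set.range s)) := by
        rw [this, finrank_top]
    _ ≤ n := (finrank_range_le_card s).trans (Fintype.card_fin n).le

variable {X Y : Scheme.{u}}

theorem exists_bound_affine (p : X ⟶ Y) [IsFinite p] {U : Y.Opens} (hU : IsAffineOpen U) :
    ∃ n : ℕ, ∀ x : X, p x ∈ U →
      @Module.Finite (Y.residueField (p x)) (X.residueField x) _ _
        (p.residueFieldMap x).hom.toAlgebra.toModule ∧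
      @Module.finrank (Y.residueField (p x)) (X.residueField x) _ _
        (p.residueFieldMap x).hom.toAlgebra.toModule ≤ n := by
  let A := Γ(Y, U)
  letI := (p.app U).hom.toAlgebra
  haveI : Module.Finite Γ(Y, U) Γ(X, p ⁻¹ᵁ U) := p.finite_app U hU
  obtain ⟨n, s, hs⟩ := Module.Finite.exists_fin (R := Γ(Y, U)) (M := Γ(X, p ⁻¹ᵁ U))
  refine ⟨n, fun x hx => ?_⟩
  letI := (p.residueFieldMap x).hom.toAlgebra
  let ev := (X.evaluation (p ⁻¹ᵁ U) x hx).hom
  refine finrank_le_of_frac ev ?_ (fun i => ev (s i)) fun b => ?_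
  · letI := (RingHom.kerLift ev).toAlgebra
    haveI : (RingHom.ker ev).IsPrime := RingHom.ker_isPrime _
    haveI := SGA1Q.isFractionRing_evaluation (hU.preimage p) x hx
    intro z
    obtain ⟨a, b, hb, rfl⟩ := IsFractionRing.div_surjective (Γ(X, p ⁻¹ᵁ U) ⧸ RingHom.ker ev) z
    obtain ⟨a, rfl⟩ := Ideal.Quotient.mk_surjective a
    obtain ⟨b, rfl⟩ := Ideal.Quotient.mk_surjective b
    refine ⟨a, b, fun h0 => ?_, rfl⟩
    exact nonZeroDivisors.ne_zero hb (Ideal.Quotient.eq_zero_iff_mem.2 h0)
  · obtain ⟨c, rfl⟩ := Submodule.mem_span_range_iff_exists_fun _ |>.1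
      (show b ∈ Submodule.span Γ(Y, U) (Set.range s) by rw [hs]; trivial)
    rw [map_sum]
    refine Submodule.sum_mem _ fun i _ => ?_
    rw [Algebra.smul_def, map_mul]
    have he : ev (algebraMap Γ(Y, U) Γ(X, p ⁻¹ᵁ U) (c i)) =
        algebraMap (Y.residueField (p x)) (X.residueField x)
          (Y.evaluation U (p x) hx (c i)) := by
      show X.evaluation _ x hx ((p.app U).hom (c i)) = _
      rw [Scheme.Hom.app_eq_appLE]
      exact SGA1Q.evaluation_appLE p U _ le_rfl x hx (c i)
    rw [he, ← Algebra.smul_def]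
    exact Submodule.smul_mem _ _ (Submodule.subset_span ⟨i, rfl⟩)

/-- The residue degrees of a finite morphism with quasi-compact target are bounded. -/
theorem exists_bound (p : X ⟶ Y) [IsFinite p] [CompactSpace Y] :
    ∃ n : ℕ, ∀ x : X,
      @Module.Finite (Y.residueField (p x)) (X.residueField x) _ _
        (p.residueFieldMap x).hom.toAlgebra.toModule ∧
      @Module.finrank (Y.residueField (p x)) (X.residueField x) _ _
        (p.residueFieldMap x).hom.toAlgebra.toModule ≤ n := by
  classical
  have hc : ∀ y : Y, ∃ U : Y.Opens, IsAffineOpen U ∧ y ∈ U := fun y => by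
    obtain ⟨U, hU, hy, -⟩ := exists_isAffineOpen_mem_and_subset (x := y) (U := ⊤) trivial
    exact ⟨U, hU, hy⟩
  choose U hU hyU using hc
  obtain ⟨t, ht⟩ := isCompact_univ.elim_finite_subcover (fun y => (U y : Set Y))
    (fun y => (U y).isOpen) (fun y _ => Set.mem_iUnion.2 ⟨y, hyU y⟩)
  choose n hn using fun y => exists_bound_affine p (hU y)
  refine ⟨∑ y ∈ t, n y, fun x => ?_⟩
  obtain ⟨y, hy, hxy⟩ := Set.mem_iUnion₂.1 (ht (Set.mem_univ (p x)))
  refine ⟨(hn y x hxy).1, (hn y x hxy).2.trans ?_⟩
  exact (Finset.single_le_sum (fun _ _ => Nat.zero_le _) hy)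

end Groth.Agent.FibDeg
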